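import Groth.Agent.Lib.Helper1.Cech.Localizing
import Groth.Agent.Lib.Helper45.QCohStalk

/-!
# Čech acyclicity of quasi-coherent modules on affine schemes for standard coverings

For an affine scheme `X`, a quasi-coherent `M : X.Modules` and a finite family of global functions
`f i` with `⋃ D(f i) = D(g)`, the Čech complex of `M` for the family `D(f i)` is exact in positive
degrees.  Also the combinatorics of standard coverings needed for Cartan's criterion.
-/

set_option autoImplicit false

universe u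

open CategoryTheory Limits Opposite TopologicalSpace AlgebraicGeometry

namespace Groth.Agent.Lib.Helper1.Cech

theorem map_prod_eq_iInf {A : Type*} [CommMonoid A] {L : Type*} [CompleteLattice L] (D : A → L)
    (h1 : D 1 = ⊤) (hmul : ∀ a b, D (a * b) = D a ⊓ D b) {n : ℕ} (F : Fin n → A) :
    D (∏ a, F a) = ⨅ a, D (F a) := by
  induction n with
  | zero => rw [Fin.prod_univ_zero, h1, iInf_of_empty]
  | succ n ih =>
    rw [Fin.prod_univ_succ, hmul, ih]
    apply le_antisymm
    · refine le_iInf fun a => ?_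
      induction a using Fin.cases with
      | zero => exact inf_le_left
      | succ b => exact inf_le_right.trans (iInf_le (fun a => D (F a.succ)) b)
    · exact le_inf (iInf_le _ 0) (le_iInf fun a => iInf_le (fun a => D (F a)) a.succ)

variable {X : Scheme.{u}} (M : X.Modules)

/-- The action of global functions on the underlying presheaf of abelian groups of an
`𝒪_X`-module. -/
noncomputable def globalAction : Action Γ(X, ⊤) M.presheaf where
  act r :=
    { app := fun W => AddCommGrpCat.ofHom (DistribSMul.toAddMonoidHom Γ(M, W.unop)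
        (X.presheaf.map (homOfLE (le_top : W.unop ≤ ⊤)).op r))
      naturality := by
        intro W V g
        ext x
        have h := Scheme.Modules.map_smul M g.unop
          (X.presheaf.map (homOfLE (le_top : W.unop ≤ ⊤)).op r) x
        have h2 : X.presheaf.map g.unop.op (X.presheaf.map (homOfLE (le_top : W.unop ≤ ⊤)).op r) =
            X.presheaf.map (homOfLE (le_top : V.unop ≤ ⊤)).op r := by
          rw [← ConcreteCategory.comp_apply, ← Functor.map_comp]
          rfl
        rw [h2] at h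
        exact h.symm }
  act_one W m := by
    change (X.presheaf.map (homOfLE (le_top : W.unop ≤ ⊤)).op (1 : Γ(X, ⊤))) •
      (show Γ(M, W.unop) from m) = m
    rw [map_one, one_smul]
  act_mul a b W m := by
    change (X.presheaf.map (homOfLE (le_top : W.unop ≤ ⊤)).op (a * b)) •
      (show Γ(M, W.unop) from m) = _
    rw [map_mul, mul_smul]
    rfl
  act_add a b W m := by
    change (X.presheaf.map (homOfLE (le_top : W.unop ≤ ⊤)).op (a + b)) •
      (show Γ(M, W.unop) from m) = _
    rw [map_add, add_smul]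
    rfl

theorem globalAction_apply (r : Γ(X, ⊤)) (W : X.Opens) (m : Γ(M, W)) :
    ((globalAction M).act r).app (op W) m =
      (X.presheaf.map (homOfLE (le_top : W ≤ ⊤)).op r) • m := rfl

theorem inter_basicOpen_scheme {ι : Type u} (f : ι → Γ(X, ⊤)) {q : ℕ} (x : Fin (q + 1) → ι) :
    inter (fun i => X.basicOpen (f i)) x = X.basicOpen (∏ a, f (x a)) := by
  rw [map_prod_eq_iInf (fun a : Γ(X, ⊤) => X.basicOpen a) X.basicOpen_one
    (fun a b => X.basicOpen_mul a b)]
  exact inter_eq_iInf (X := X.toTopCat) _ x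

theorem globalAction_bijective (g : Γ(X, ⊤)) (W : X.Opens) (hW : W ≤ X.basicOpen g) :
    Function.Bijective (((globalAction M).act g).app (op W)) := by
  have hu : IsUnit (X.presheaf.map (homOfLE (le_top : W ≤ ⊤)).op g) := by
    have h1 := (X.toRingedSpace.isUnit_res_basicOpen g).map (X.presheaf.map (homOfLE hW).op).hom
    have h2 : (X.presheaf.map (homOfLE hW).op).hom
        ((X.presheaf.map (homOfLE (X.basicOpen_le g)).op) g) =
        X.presheaf.map (homOfLE (le_top : W ≤ ⊤)).op g := by
      rw [← CommRingCat.comp_apply, ← Functor.map_comp]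
      rfl
    rw [← h2]
    exact h1
  obtain ⟨u, hu⟩ := hu
  have : ⇑(ConcreteCategory.hom (((globalAction M).act g).app (op W))) =
      fun m : Γ(M, W) => u • m := by
    funext m
    rw [globalAction_apply, ← hu]
    rfl
  rw [this]
  exact MulAction.bijective u

theorem isLocalizingAt_top_affine [IsAffine X] [M.IsQuasicoherent] (a : Γ(X, ⊤)) :
    IsLocalizingAt (globalAction M) a (le_top : X.basicOpen a ≤ ⊤) := by
  constructor
  · intro u
    obtain ⟨n, t, ht⟩ :=
      Groth.Agent.Lib.Helper45.exists_restrict_eq_pow_smul (isAffineOpen_top X) M a u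
    refine ⟨n, t, ?_⟩
    rw [globalAction_apply, map_pow]
    exact ht
  · intro t ht
    obtain ⟨n, hn⟩ := Groth.Agent.Lib.Helper45.exists_pow_smul_eq_zero_of_restrict_eq_zero
      (isAffineOpen_top X) M a t ht
    refine ⟨n, ?_⟩
    rw [globalAction_apply]
    have : (homOfLE (le_top : (⊤ : X.Opens) ≤ ⊤)) = 𝟙 _ := rfl
    rw [this, op_id, X.presheaf.map_id]
    exact hn

theorem isLocalizingAt_basicOpen_affine [IsAffine X] [M.IsQuasicoherent] (h a : Γ(X, ⊤))
    (hle : X.basicOpen (h * a) ≤ X.basicOpen h) :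
    IsLocalizingAt (globalAction M) a hle :=
  isLocalizingAt_of_base (X := X.toTopCat) (globalAction M) ⊤
    (fun a => X.basicOpen a) (fun _ => le_top)
    (isLocalizingAt_top_affine M) (fun a => globalAction_bijective M a _ le_rfl) h a hle

theorem IsLocalizingAt.of_eq' {Y : TopCat.{u}} {P : (Opens Y)ᵒᵖ ⥤ AddCommGrpCat.{u}}
    {A : Type*} [CommRing A] {α : Action A P} {a : A}
    {W V W' V' : Opens Y} (hW : W = W') (hV : V = V') {h : V ≤ W} (h' : V' ≤ W')
    (H : IsLocalizingAt α a h) : IsLocalizingAt α a h' := by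
  subst hW hV; exact H

/-- **Čech acyclicity on an affine scheme** for a quasi-coherent module and a finite family of
basic opens `D(f i)` contained in `D(g)`, with `g` in the radical of the ideal generated by the
`f i` (a standard covering of `D(g)`). -/
theorem exactAt_affine [IsAffine X] [M.IsQuasicoherent] {ι : Type u} [Finite ι]
    (f : ι → Γ(X, ⊤)) (g : Γ(X, ⊤)) (hg : g ∈ (Ideal.span (Set.range f)).radical)
    (hle : ∀ i, X.basicOpen (f i) ≤ X.basicOpen g) (p : ℕ) :
    (K (fun i => X.basicOpen (f i)) M.presheaf).ExactAt (p + 1) := by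
  refine exactAt_of_localizing (X := X.toTopCat) (globalAction M) f g hg (fun q x => ?_)
    (fun j q y => ?_) p
  · refine globalAction_bijective M g _ ?_
    rw [inter_basicOpen_scheme]
    refine le_trans ?_ (hle (x 0))
    rw [Fin.prod_univ_succ, X.basicOpen_mul]
    exact inf_le_left
  · refine IsLocalizingAt.of_eq' (inter_basicOpen_scheme f y).symm ?_ _
      (isLocalizingAt_basicOpen_affine M (∏ a, f (y a)) (f j)
        (by rw [X.basicOpen_mul]; exact inf_le_left))
    rw [inter_cons_eq, inter_basicOpen_scheme, X.basicOpen_mul]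

section StandardCoverings

theorem mem_radical_span_iff_basicOpen_subset {R : Type*} [CommRing R] {ι : Type*} (f : ι → R)
    (g : R) : g ∈ (Ideal.span (Set.range f)).radical ↔
      (PrimeSpectrum.basicOpen g : Set (PrimeSpectrum R)) ⊆ ⋃ i, PrimeSpectrum.basicOpen (f i) := by
  rw [Ideal.radical_eq_sInf, Submodule.mem_sInf]
  constructor
  · intro h y hy
    by_contra hne
    simp only [Set.mem_iUnion, not_exists] at hne
    refine hy (h y.asIdeal ⟨Ideal.span_le.mpr ?_, y.isPrime⟩)
    rintro _ ⟨i, rfl⟩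
    by_contra hi
    exact hne i hi
  · rintro h J ⟨hJ, hprime⟩
    by_contra hg
    obtain ⟨i, hi⟩ := Set.mem_iUnion.mp (h (show (⟨J, hprime⟩ : PrimeSpectrum R) ∈ _ from hg))
    exact hi (hJ (Ideal.subset_span ⟨i, rfl⟩))

theorem basicOpen_le_iSup_iff [IsAffine X] {ι : Type*} (f : ι → Γ(X, ⊤)) (g : Γ(X, ⊤)) :
    X.basicOpen g ≤ ⨆ i, X.basicOpen (f i) ↔ g ∈ (Ideal.span (Set.range f)).radical := by
  rw [mem_radical_span_iff_basicOpen_subset]
  constructor
  · intro h y hy
    obtain ⟨x, rfl⟩ := X.isoSpec.hom.surjective y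
    have hx : x ∈ X.basicOpen g := by
      rw [← Scheme.map_PrimeSpectrum_basicOpen_of_affine]; exact hy
    obtain ⟨i, hi⟩ := Opens.mem_iSup.mp (h hx)
    refine Set.mem_iUnion.mpr ⟨i, ?_⟩
    rw [← Scheme.map_PrimeSpectrum_basicOpen_of_affine] at hi
    exact hi
  · intro h x hx
    rw [← Scheme.map_PrimeSpectrum_basicOpen_of_affine] at hx
    obtain ⟨i, hi⟩ := Set.mem_iUnion.mp (h hx)
    refine Opens.mem_iSup.mpr ⟨i, ?_⟩
    rw [← Scheme.map_PrimeSpectrum_basicOpen_of_affine]
    exact hi

/-- Standard coverings of basic opens of a scheme by basic opens of global functions. -/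
def StdCov (X : Scheme.{u}) (ι : Type u) (V : ι → X.Opens) : Prop :=
  Finite ι ∧ ∃ (f : ι → Γ(X, ⊤)) (g : Γ(X, ⊤)), (∀ i, V i = X.basicOpen (f i)) ∧
    g ∈ (Ideal.span (Set.range f)).radical ∧ ∀ i, X.basicOpen (f i) ≤ X.basicOpen g

theorem StdCov.iSup_mem [IsAffine X] {ι : Type u} {V : ι → X.Opens} (h : StdCov X ι V) :
    iSup V ∈ Set.range (X.basicOpen : Γ(X, ⊤) → X.Opens) := by
  obtain ⟨_, f, g, hV, hg, hle⟩ := h
  refine ⟨g, le_antisymm ?_ ?_⟩
  · have := (basicOpen_le_iSup_iff f g).mpr hg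
    refine this.trans (iSup_mono fun i => (hV i).ge)
  · exact iSup_le fun i => (hV i).le.trans (hle i)

theorem StdCov.iInf_mem {ι : Type u} {V : ι → X.Opens} (h : StdCov X ι V) (p : ℕ)
    (a : Fin (p + 1) → ι) :
    (iInf fun k => V (a k)) ∈ Set.range (X.basicOpen : Γ(X, ⊤) → X.Opens) := by
  obtain ⟨_, f, g, hV, hg, hle⟩ := h
  refine ⟨∏ k, f (a k), ?_⟩
  rw [map_prod_eq_iInf (fun a : Γ(X, ⊤) => X.basicOpen a) X.basicOpen_one
    (fun a b => X.basicOpen_mul a b)]
  exact iInf_congr fun k => (hV (a k)).symm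

theorem StdCov.exists_refinement [IsAffine X] (U : X.Opens)
    (hU : U ∈ Set.range (X.basicOpen : Γ(X, ⊤) → X.Opens)) (κ : Type u) (W : κ → X.Opens)
    (hW : iSup W = U) :
    ∃ (ι : Type u) (V : ι → X.Opens), StdCov X ι V ∧ iSup V = U ∧ ∀ i, ∃ k, V i ≤ W k := by
  obtain ⟨g, rfl⟩ := hU
  have hcpt : IsCompact (X.basicOpen g : Set X) := ((isAffineOpen_top X).basicOpen g).isCompact
  -- choose, for each point, a basic open around it inside some `W k`
  have hpt : ∀ x : X.basicOpen g, ∃ (r : Γ(X, ⊤)) (k : κ), (x : X) ∈ X.basicOpen r ∧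
      X.basicOpen r ≤ W k ∧ X.basicOpen r ≤ X.basicOpen g := by
    intro x
    have hx : (x : X) ∈ iSup W := by rw [hW]; exact x.2
    obtain ⟨k, hk⟩ := Opens.mem_iSup.mp hx
    obtain ⟨_, ⟨_, ⟨r, rfl⟩, rfl⟩, hxr, hr⟩ := (isBasis_basicOpen X).exists_subset_of_mem_open
      (show (x : X) ∈ ((W k ⊓ X.basicOpen g : X.Opens) : Set X) from ⟨hk, x.2⟩)
      (W k ⊓ X.basicOpen g).isOpen
    exact ⟨r, k, hxr, fun y hy => (hr hy).1, fun y hy => (hr hy).2⟩
  choose r k hxr hrW hrg using hpt
  obtain ⟨t, ht⟩ := hcpt.elim_finite_subcover (fun x : X.basicOpen g => (X.basicOpen (r x) : Set X))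
    (fun x => (X.basicOpen (r x)).isOpen)
    (fun y hy => Set.mem_iUnion.mpr ⟨⟨y, hy⟩, hxr ⟨y, hy⟩⟩)
  have hsup : (⨆ i : {x // x ∈ t}, X.basicOpen (r i.1)) = X.basicOpen g := by
    apply le_antisymm
    · exact iSup_le fun i => hrg i.1
    · intro y hy
      obtain ⟨x, hx⟩ := Set.mem_iUnion.mp (ht hy)
      obtain ⟨hxt, hyx⟩ := Set.mem_iUnion.mp hx
      exact Opens.mem_iSup.mpr ⟨⟨x, hxt⟩, hyx⟩
  refine ⟨{x // x ∈ t}, fun i => X.basicOpen (r i.1), ⟨inferInstance, fun i => r i.1, g,
    fun _ => rfl, ?_, fun i => hrg i.1⟩, hsup, fun i => ⟨k i.1, hrW i.1⟩⟩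
  exact (basicOpen_le_iSup_iff _ g).mp hsup.ge

theorem StdCov.exactAt [IsAffine X] [M.IsQuasicoherent] {ι : Type u} {V : ι → X.Opens}
    (h : StdCov X ι V) (p : ℕ) : (K V M.presheaf).ExactAt (p + 1) := by
  obtain ⟨_, f, g, hV, hg, hle⟩ := h
  obtain rfl : V = fun i => X.basicOpen (f i) := funext hV
  exact exactAt_affine M f g hg hle p

end StandardCoverings

end Groth.Agent.Lib.Helper1.Cech
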