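import Mathlib

/-!
# Elementwise API for Mathlib's `cechComplexFunctor` with values in `AddCommGrpCat`

For a family `U : ι → C` in a category with finite products and a presheaf of abelian groups
`P : Cᵒᵖ ⥤ AddCommGrpCat`, the degree-`q` term of `(cechComplexFunctor U).obj P` is the product over
`x : Fin (q + 1) → ι` of `P (∏ᶜ (U ∘ x))`.  This file provides components, extensionality,
construction of cochains from components, and the formulas for the differential and for the
functoriality in `P`.
-/

set_option autoImplicit false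

universe u v w

open CategoryTheory Limits Opposite

namespace Groth.Agent.Lib.Helper1.Cech

variable {C : Type v} [Category.{w} C] [HasFiniteProducts C] {ι : Type u} (U : ι → C)
  (P : Cᵒᵖ ⥤ AddCommGrpCat.{u})

/-- The Čech complex (Mathlib's). -/
noncomputable abbrev K : CochainComplex AddCommGrpCat.{u} ℕ := (cechComplexFunctor U).obj P

/-- The "intersection" `U_{x 0} × ⋯ × U_{x q}`. -/
noncomputable abbrev inter {q : ℕ} (x : Fin (q + 1) → ι) : C := ∏ᶜ (U ∘ x)

/-- The `x`-component of a Čech cochain. -/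
noncomputable def comp (q : ℕ) (x : Fin (q + 1) → ι) : (K U P).X q →+ P.obj (op (inter U x)) :=
  (Pi.π (fun (y : Fin (q + 1) → ι) => P.obj (op (inter U y))) x).hom

variable {U P}

theorem ext {q : ℕ} {s t : (K U P).X q} (h : ∀ x, comp U P q x s = comp U P q x t) : s = t := by
  apply (Concrete.productEquiv (fun (y : Fin (q + 1) → ι) => P.obj (op (inter U y)))).injective
  funext x
  rw [Concrete.productEquiv_apply_apply, Concrete.productEquiv_apply_apply]
  exact h x

theorem exists_mk {q : ℕ} (t : ∀ x : Fin (q + 1) → ι, P.obj (op (inter U x))) :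
    ∃ s : (K U P).X q, ∀ x, comp U P q x s = t x :=
  ⟨(Concrete.productEquiv (fun (y : Fin (q + 1) → ι) => P.obj (op (inter U y)))).symm t,
    fun x => Concrete.productEquiv_symm_apply_π _ t x⟩

variable (U) in
/-- The `k`-th face: `U_x ⟶ U_{x ∘ δ_k}`. -/
noncomputable def face {q : ℕ} (x : Fin (q + 2) → ι) (k : Fin (q + 2)) :
    inter U x ⟶ inter U (x ∘ k.succAbove) :=
  Pi.lift (fun a => Pi.π (U ∘ x) (k.succAbove a))

theorem d_eq (q : ℕ) : (K U P).d q (q + 1) =
    ∑ i : Fin (q + 2), (-1 : ℤ) ^ (i : ℕ) •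
      ((FormalCoproduct.cosimplicialObjectFunctor (FormalCoproduct.mk _ U).cech).obj P).δ i :=
  CochainComplex.of_d (fun n => ((FormalCoproduct.cosimplicialObjectFunctor
    (FormalCoproduct.mk _ U).cech).obj P).obj (SimplexCategory.mk n))
    (AlgebraicTopology.AlternatingCofaceMapComplex.objD _) q

theorem δ_eq (q : ℕ) (i : Fin (q + 2)) :
    ((FormalCoproduct.cosimplicialObjectFunctor (FormalCoproduct.mk _ U).cech).obj P).δ i =
     Pi.lift (fun (x : Fin (q + 2) → ι) =>
       Pi.π (fun (y : Fin (q + 1) → ι) => P.obj (op (inter U y))) (x ∘ Fin.succAbove i) ≫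
       P.map (face U x i).op) := rfl

theorem hom_sum_apply {M N : AddCommGrpCat.{u}} {α : Type*} (s : Finset α) (f : α → (M ⟶ N))
    (x : M) : (∑ i ∈ s, f i).hom x = ∑ i ∈ s, (f i).hom x := by
  have : (∑ i ∈ s, f i).hom = ∑ i ∈ s, (f i).hom := map_sum AddCommGrpCat.homAddEquiv f s
  rw [this, AddMonoidHom.finsetSum_apply]

theorem comp_d {q : ℕ} (s : (K U P).X q) (x : Fin (q + 2) → ι) :
    comp U P (q + 1) x ((K U P).d q (q + 1) s) =
      ∑ k : Fin (q + 2), (-1 : ℤ) ^ (k : ℕ) •
        (P.map (face U x k).op) (comp U P q (x ∘ k.succAbove) s) := by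
  rw [d_eq]
  simp only [δ_eq]
  erw [hom_sum_apply]
  rw [map_sum]
  refine Finset.sum_congr rfl (fun k _ => ?_)
  erw [AddCommGrpCat.hom_zsmul, AddMonoidHom.smul_apply, map_zsmul]
  congr 1
  unfold comp
  erw [← AddCommGrpCat.comp_apply, Pi.lift_π]
  rfl

theorem comp_map {Q : Cᵒᵖ ⥤ AddCommGrpCat.{u}} (α : P ⟶ Q) (q : ℕ) (x : Fin (q + 1) → ι)
    (s : (K U P).X q) :
    comp U Q q x (((cechComplexFunctor U).map α).f q s) = α.app _ (comp U P q x s) := by
  have : ((cechComplexFunctor U).map α).f q =
      Limits.Pi.map (fun (y : Fin (q + 1) → ι) => α.app (op (inter U y))) := rfl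
  rw [this]
  unfold comp
  erw [← AddCommGrpCat.comp_apply, Pi.map_π]
  rfl

/-- Elementwise criterion for exactness of a cochain complex of abelian groups in positive
degree. -/
theorem exactAt_succ_iff (L : CochainComplex AddCommGrpCat.{u} ℕ) (p : ℕ) :
    L.ExactAt (p + 1) ↔
      ∀ s : L.X (p + 1), L.d (p + 1) (p + 2) s = 0 → ∃ t : L.X p, L.d p (p + 1) t = s := by
  rw [HomologicalComplex.exactAt_iff' L p (p + 1) (p + 2) (by simp) (by simp),
    ShortComplex.ab_exact_iff]
  rfl

/-- An action of a commutative ring on a presheaf of abelian groups by endomorphisms (stated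
sectionwise, so that it is easy to provide). -/
structure Action (A : Type*) [CommRing A] (P : Cᵒᵖ ⥤ AddCommGrpCat.{u}) where
  /-- the endomorphism "multiplication by `a`" -/
  act : A → (P ⟶ P)
  act_one : ∀ (W : Cᵒᵖ) (m : P.obj W), (act 1).app W m = m
  act_mul : ∀ (a b : A) (W : Cᵒᵖ) (m : P.obj W),
    (act (a * b)).app W m = (act a).app W ((act b).app W m)
  act_add : ∀ (a b : A) (W : Cᵒᵖ) (m : P.obj W),
    (act (a + b)).app W m = (act a).app W m + (act b).app W m

namespace Action

variable {A : Type*} [CommRing A] (α : Action A P)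

omit [HasFiniteProducts C] in
theorem act_zero (W : Cᵒᵖ) (m : P.obj W) : (α.act 0).app W m = 0 := by
  have h := α.act_add 0 0 W m
  rw [add_zero] at h
  exact left_eq_add.mp h

omit [HasFiniteProducts C] in
theorem act_naturality (a : A) {W V : Cᵒᵖ} (g : W ⟶ V) (m : P.obj W) :
    (α.act a).app V (P.map g m) = P.map g ((α.act a).app W m) := by
  have := (α.act a).naturality g
  exact ConcreteCategory.congr_hom this m

variable (U) in
/-- The induced action on the Čech complex, degreewise. -/
noncomputable def onK (a : A) (q : ℕ) : (K U P).X q →+ (K U P).X q :=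
  (((cechComplexFunctor U).map (α.act a)).f q).hom

theorem comp_onK (a : A) (q : ℕ) (x : Fin (q + 1) → ι) (s : (K U P).X q) :
    comp U P q x (α.onK U a q s) = (α.act a).app _ (comp U P q x s) :=
  comp_map (α.act a) q x s

theorem d_onK (a : A) (q : ℕ) (s : (K U P).X q) :
    (K U P).d q (q + 1) (α.onK U a q s) = α.onK U a (q + 1) ((K U P).d q (q + 1) s) := by
  have := ((cechComplexFunctor U).map (α.act a)).comm q (q + 1)
  exact ConcreteCategory.congr_hom this s

theorem onK_one (q : ℕ) (s : (K U P).X q) : α.onK U 1 q s = s :=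
  ext fun x => by rw [comp_onK, α.act_one]

theorem onK_zero (q : ℕ) (s : (K U P).X q) : α.onK U 0 q s = 0 :=
  ext fun x => by rw [comp_onK, α.act_zero, map_zero]

theorem onK_mul (a b : A) (q : ℕ) (s : (K U P).X q) :
    α.onK U (a * b) q s = α.onK U a q (α.onK U b q s) :=
  ext fun x => by rw [comp_onK, comp_onK, comp_onK, α.act_mul]

theorem onK_add (a b : A) (q : ℕ) (s : (K U P).X q) :
    α.onK U (a + b) q s = α.onK U a q s + α.onK U b q s :=
  ext fun x => by rw [comp_onK, map_add, comp_onK, comp_onK, α.act_add]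

end Action

end Groth.Agent.Lib.Helper1.Cech
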