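import Groth.Agent.Lib.Helper1.Cech.Concrete

/-!
# Čech acyclicity from a "localizing" action

Let `P` be a presheaf of abelian groups on a topological space, with an action of a commutative
ring `A`, let `U : ι → Opens X` be a finite family and `f : ι → A`.  If restriction from a finite
intersection `W` of members of the family to `W ⊓ U j` behaves like localization at `f j`, and if
`g ∈ A` lies in the radical of the ideal generated by the `f j` and acts bijectively on the
sections over finite intersections, then the Čech complex of `P` with respect to `U` is exact in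
positive degrees.  (For `g = 1` this is the classical statement for a standard covering of an
affine scheme; general `g` gives standard coverings of basic opens.)
-/

set_option autoImplicit false

universe u v

open CategoryTheory Limits Opposite TopologicalSpace

namespace Groth.Agent.Lib.Helper1.Cech

variable {X : TopCat.{u}} {ι : Type u} (U : ι → Opens X) (P : (Opens X)ᵒᵖ ⥤ AddCommGrpCat.{u})

theorem inter_eq_iInf {q : ℕ} (x : Fin (q + 1) → ι) : inter U x = ⨅ a, U (x a) :=
  le_antisymm (le_iInf fun a => leOfHom (Pi.π (U ∘ x) a))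
    (leOfHom (Pi.lift fun a => homOfLE (iInf_le (fun a => U (x a)) a)))

/-- Restriction to `W` of the `z`-component of a cochain. -/
noncomputable def res (W : Opens X) {q : ℕ} (z : Fin (q + 1) → ι) (h : W ≤ inter U z) :
    (K U P).X q →+ P.obj (op W) :=
  (P.map (homOfLE h).op).hom.comp (comp U P q z)

variable {U P}

theorem res_congr {W : Opens X} {q : ℕ} {z z' : Fin (q + 1) → ι} (hz : z = z')
    (h : W ≤ inter U z) (h' : W ≤ inter U z') (s : (K U P).X q) :
    res U P W z h s = res U P W z' h' s := by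
  subst hz; rfl

theorem map_res {W W' : Opens X} (g : op W ⟶ op W') {q : ℕ} (z : Fin (q + 1) → ι)
    (h : W ≤ inter U z) (h' : W' ≤ inter U z) (s : (K U P).X q) :
    P.map g (res U P W z h s) = res U P W' z h' s := by
  unfold res
  simp only [AddMonoidHom.comp_apply]
  erw [← AddCommGrpCat.comp_apply, ← P.map_comp]
  rfl

theorem map_comp_eq_res {W : Opens X} {q : ℕ} (z : Fin (q + 1) → ι) (g : op (inter U z) ⟶ op W)
    (s : (K U P).X q) :
    P.map g (comp U P q z s) = res U P W z (leOfHom g.unop) s := rfl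

variable (U) in
theorem inter_cons_eq (j : ι) {q : ℕ} (y : Fin (q + 1) → ι) :
    inter U (Fin.cons j y : Fin (q + 2) → ι) = inter U y ⊓ U j := by
  rw [inter_eq_iInf, inter_eq_iInf]
  apply le_antisymm
  · refine le_inf (le_iInf fun a => ?_) ?_
    · exact (iInf_le (fun a => U ((Fin.cons j y : Fin (q + 2) → ι) a)) a.succ).trans_eq
        (by simp)
    · exact (iInf_le (fun a => U ((Fin.cons j y : Fin (q + 2) → ι) a)) 0).trans_eq (by simp)
  · refine le_iInf fun a => ?_
    induction a using Fin.cases with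
    | zero => simp
    | succ b => simpa using inf_le_left.trans (iInf_le (fun a => U (y a)) b)

variable (U) in
theorem inter_cons_le (j : ι) {q : ℕ} (y : Fin (q + 1) → ι) :
    inter U (Fin.cons j y : Fin (q + 2) → ι) ≤ inter U y :=
  (inter_cons_eq U j y).trans_le inf_le_left

theorem cons_comp_succAbove_zero (j : ι) {q : ℕ} (x : Fin (q + 1) → ι) :
    (Fin.cons j x : Fin (q + 2) → ι) ∘ (0 : Fin (q + 2)).succAbove = x := by
  funext a
  simp

theorem cons_comp_succAbove_succ (j : ι) {q : ℕ} (x : Fin (q + 2) → ι) (k : Fin (q + 2)) :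
    (Fin.cons j x : Fin (q + 3) → ι) ∘ k.succ.succAbove =
      (Fin.cons j (x ∘ k.succAbove) : Fin (q + 2) → ι) := by
  funext a
  induction a using Fin.cases with
  | zero => simp
  | succ b => simp

variable {A : Type v} [CommRing A] (α : Action A P)

/-- The restriction map `P(W) → P(V)` "is a localization at `a`" (the two properties that are
used). -/
structure IsLocalizingAt (a : A) {W V : Opens X} (h : V ≤ W) : Prop where
  surj : ∀ u : P.obj (op V), ∃ (N : ℕ) (t : P.obj (op W)),
    P.map (homOfLE h).op t = (α.act (a ^ N)).app _ u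
  inj : ∀ t : P.obj (op W), P.map (homOfLE h).op t = 0 → ∃ N : ℕ, (α.act (a ^ N)).app _ t = 0

theorem act_res (a : A) (W : Opens X) {q : ℕ} (z : Fin (q + 1) → ι) (h : W ≤ inter U z)
    (s : (K U P).X q) :
    (α.act a).app _ (res U P W z h s) = res U P W z h (α.onK U a q s) := by
  unfold res
  simp only [AddMonoidHom.comp_apply]
  rw [Action.comp_onK]
  exact α.act_naturality a _ _

/-- Uniformization of exponents over a finite type. -/
theorem exists_uniform {T : Type*} [Finite T] (Q : T → ℕ → Prop)
    (hQ : ∀ t N N', N ≤ N' → Q t N → Q t N') (h : ∀ t, ∃ N, Q t N) : ∃ N, ∀ t, Q t N := by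
  choose N₀ hN₀ using h
  obtain ⟨N, hN⟩ := (Set.finite_range N₀).bddAbove
  exact ⟨N, fun t => hQ t _ _ (hN ⟨t, rfl⟩) (hN₀ t)⟩

/-- The cocycle condition at `Fin.cons j x`, restricted to `inter U (Fin.cons j x)`. -/
theorem res_eq_sum_of_cocycle (j : ι) {p : ℕ} (s : (K U P).X (p + 1))
    (hs : (K U P).d (p + 1) (p + 2) s = 0) (x : Fin (p + 2) → ι) :
    res U P (inter U (Fin.cons j x : Fin (p + 3) → ι)) x (inter_cons_le U j x) s =
      ∑ k : Fin (p + 2), (-1 : ℤ) ^ (k : ℕ) •
        res U P (inter U (Fin.cons j x : Fin (p + 3) → ι))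
          (Fin.cons j (x ∘ k.succAbove) : Fin (p + 2) → ι)
          (by rw [← cons_comp_succAbove_succ]; exact leOfHom (face U _ k.succ)) s := by
  have h := comp_d s (Fin.cons j x : Fin (p + 3) → ι)
  rw [hs, map_zero, Fin.sum_univ_succ] at h
  have h0 : (P.map (face U (Fin.cons j x : Fin (p + 3) → ι) 0).op)
      (comp U P (p + 1) ((Fin.cons j x : Fin (p + 3) → ι) ∘ (0 : Fin (p + 3)).succAbove) s) =
      res U P (inter U (Fin.cons j x : Fin (p + 3) → ι)) x (inter_cons_le U j x) s := by
    rw [map_comp_eq_res]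
    exact res_congr (cons_comp_succAbove_zero j x) _ _ s
  have hk : ∀ k : Fin (p + 2), (P.map (face U (Fin.cons j x : Fin (p + 3) → ι) k.succ).op)
      (comp U P (p + 1) ((Fin.cons j x : Fin (p + 3) → ι) ∘ k.succ.succAbove) s) =
      res U P (inter U (Fin.cons j x : Fin (p + 3) → ι))
          (Fin.cons j (x ∘ k.succAbove) : Fin (p + 2) → ι)
          (by rw [← cons_comp_succAbove_succ]; exact leOfHom (face U _ k.succ)) s := by
    intro k
    rw [map_comp_eq_res]
    exact res_congr (cons_comp_succAbove_succ j x k) _ _ s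
  rw [h0] at h
  simp only [hk, Fin.val_succ, pow_succ, mul_neg, mul_one, neg_smul, Finset.sum_neg_distrib,
    Fin.val_zero, pow_zero, one_smul] at h
  exact (add_neg_eq_zero.mp h.symm)

theorem act_pow_add (a : A) (N d : ℕ) (W : (Opens X)ᵒᵖ) (m : P.obj W) :
    (α.act (a ^ (d + N))).app W m = (α.act (a ^ d)).app W ((α.act (a ^ N)).app W m) := by
  rw [pow_add, α.act_mul]

/-- Per index `j`: a power of `f j` times a cocycle is a coboundary. -/
theorem exists_pow_onK_eq_d [Finite ι] (a : A) (j : ι) (p : ℕ)
    (hloc : ∀ (q : ℕ) (y : Fin (q + 1) → ι), IsLocalizingAt α a (inter_cons_le U j y))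
    (s : (K U P).X (p + 1)) (hs : (K U P).d (p + 1) (p + 2) s = 0) :
    ∃ (N : ℕ) (t : (K U P).X p), (K U P).d p (p + 1) t = α.onK U (a ^ N) (p + 1) s := by
  -- Step 1: lift `a ^ N • s_{(j, y)}` to `P (U_y)`, uniformly in `y`.
  obtain ⟨N, hN⟩ := exists_uniform
    (fun (y : Fin (p + 1) → ι) N => ∃ t₀ : P.obj (op (inter U y)),
      P.map (homOfLE (inter_cons_le U j y)).op t₀ =
        (α.act (a ^ N)).app _ (comp U P (p + 1) (Fin.cons j y) s))
    (by
      rintro y N N' hNN' ⟨t₀, ht₀⟩
      obtain ⟨d, rfl⟩ := Nat.exists_eq_add_of_le' hNN'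
      refine ⟨(α.act (a ^ d)).app _ t₀, ?_⟩
      rw [act_pow_add, ← ht₀]
      exact (α.act_naturality _ _ _).symm)
    (fun y => by
      obtain ⟨N, t₀, h⟩ := (hloc p y).surj (comp U P (p + 1) (Fin.cons j y) s)
      exact ⟨N, t₀, h⟩)
  choose t₀ ht₀ using hN
  obtain ⟨t, ht⟩ := exists_mk t₀
  -- Step 2: `d t - a ^ N • s` restricts to zero on `U_{(j, x)}`.
  have key : ∀ x : Fin (p + 2) → ι, P.map (homOfLE (inter_cons_le U j x)).op
      (comp U P (p + 1) x ((K U P).d p (p + 1) t) -
        (α.act (a ^ N)).app _ (comp U P (p + 1) x s)) = 0 := by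
    intro x
    rw [map_sub, sub_eq_zero, comp_d, map_sum]
    have h2 : (P.map (homOfLE (inter_cons_le U j x)).op)
        ((α.act (a ^ N)).app _ (comp U P (p + 1) x s)) =
        (α.act (a ^ N)).app _
          (res U P (inter U (Fin.cons j x : Fin (p + 3) → ι)) x (inter_cons_le U j x) s) :=
      (α.act_naturality _ _ _).symm
    rw [h2, res_eq_sum_of_cocycle j s hs x, map_sum]
    refine Finset.sum_congr rfl fun k _ => ?_
    rw [map_zsmul, map_zsmul]
    congr 1
    rw [map_comp_eq_res, act_res, map_res (P := P) _ (x ∘ k.succAbove) _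
      ((inter_cons_le U j x).trans (leOfHom (face U x k))) t]
    -- the `x ∘ δ_k` component of `t`, restricted to `U_{(j, x)}`
    have h3 : res U P (inter U (Fin.cons j x : Fin (p + 3) → ι)) (x ∘ k.succAbove)
        ((inter_cons_le U j x).trans (leOfHom (face U x k))) t =
        P.map (homOfLE (by rw [← cons_comp_succAbove_succ]; exact leOfHom (face U _ k.succ) :
          inter U (Fin.cons j x : Fin (p + 3) → ι) ≤
            inter U (Fin.cons j (x ∘ k.succAbove) : Fin (p + 2) → ι))).op
          (P.map (homOfLE (inter_cons_le U j (x ∘ k.succAbove))).op (t₀ (x ∘ k.succAbove))) := by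
      rw [← ht]
      exact (map_res (P := P) _ (x ∘ k.succAbove) (inter_cons_le U j (x ∘ k.succAbove)) _ t).symm
    rw [h3, ht₀, ← α.act_naturality, map_comp_eq_res, act_res]
  -- Step 3: kill the difference by a further power of `a`.
  obtain ⟨N', hN'⟩ := exists_uniform
    (fun (x : Fin (p + 2) → ι) N' => (α.act (a ^ N')).app _
      (comp U P (p + 1) x ((K U P).d p (p + 1) t) -
        (α.act (a ^ N)).app _ (comp U P (p + 1) x s)) = 0)
    (by
      rintro x N₁ N₂ h12 h
      obtain ⟨d, rfl⟩ := Nat.exists_eq_add_of_le' h12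
      rw [act_pow_add, h, map_zero])
    (fun x => (hloc (p + 1) x).inj _ (key x))
  refine ⟨N' + N, α.onK U (a ^ N') p t, ?_⟩
  rw [α.d_onK]
  apply ext
  intro x
  rw [Action.comp_onK, Action.comp_onK, act_pow_add]
  have := hN' x
  rw [map_sub, sub_eq_zero] at this
  exact this

variable (U) in
/-- The ideal of those `a` such that `a • s` is a coboundary. -/
def cobIdeal (p : ℕ) (s : (K U P).X (p + 1)) : Ideal A where
  carrier := {a | ∃ t : (K U P).X p, (K U P).d p (p + 1) t = α.onK U a (p + 1) s}
  zero_mem' := ⟨0, by rw [map_zero, α.onK_zero]⟩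
  add_mem' := by
    rintro a b ⟨t, ht⟩ ⟨t', ht'⟩
    exact ⟨t + t', by rw [map_add, ht, ht', α.onK_add]⟩
  smul_mem' := by
    rintro c a ⟨t, ht⟩
    exact ⟨α.onK U c p t, by rw [α.d_onK, ht, smul_eq_mul, α.onK_mul]⟩

theorem onK_bijective (g : A)
    (hgbij : ∀ (q : ℕ) (x : Fin (q + 1) → ι),
      Function.Bijective ((α.act g).app (op (inter U x))))
    (q : ℕ) : Function.Bijective (α.onK U g q) := by
  constructor
  · intro s s' h
    apply ext
    intro x
    apply (hgbij q x).1
    rw [← Action.comp_onK, ← Action.comp_onK, h]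
  · intro s
    choose u hu using fun x => (hgbij q x).2 (comp U P q x s)
    obtain ⟨t, ht⟩ := exists_mk u
    refine ⟨t, ext fun x => ?_⟩
    rw [Action.comp_onK, ht, hu]

theorem onK_pow_bijective (g : A)
    (hgbij : ∀ (q : ℕ) (x : Fin (q + 1) → ι),
      Function.Bijective ((α.act g).app (op (inter U x))))
    (m q : ℕ) : Function.Bijective (α.onK U (g ^ m) q) := by
  induction m with
  | zero =>
    have : ⇑(α.onK U (g ^ 0) q) = id := by
      funext s
      rw [pow_zero, α.onK_one]; rfl
    rw [this]
    exact Function.bijective_id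
  | succ m ih =>
    have : ⇑(α.onK U (g ^ (m + 1)) q) = ⇑(α.onK U (g ^ m) q) ∘ ⇑(α.onK U g q) := by
      funext s
      rw [pow_succ, α.onK_mul]; rfl
    rw [this]
    exact ih.comp (onK_bijective α g hgbij q)

/-- **Čech acyclicity from a localizing action.**  See the module docstring. -/
theorem exactAt_of_localizing [Finite ι] (f : ι → A) (g : A)
    (hg : g ∈ (Ideal.span (Set.range f)).radical)
    (hgbij : ∀ (q : ℕ) (x : Fin (q + 1) → ι),
      Function.Bijective ((α.act g).app (op (inter U x))))
    (hloc : ∀ (j : ι) (q : ℕ) (y : Fin (q + 1) → ι),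
      IsLocalizingAt α (f j) (inter_cons_le U j y))
    (p : ℕ) : (K U P).ExactAt (p + 1) := by
  rw [exactAt_succ_iff]
  intro s hs
  have h1 : ∀ j, f j ∈ (cobIdeal U α p s).radical := fun j => by
    obtain ⟨N, t, ht⟩ := exists_pow_onK_eq_d α (f j) j p (hloc j) s hs
    exact ⟨N, t, ht⟩
  have h2 : g ∈ (cobIdeal U α p s).radical := by
    have h3 : Ideal.span (Set.range f) ≤ (cobIdeal U α p s).radical :=
      Ideal.span_le.mpr (by rintro _ ⟨j, rfl⟩; exact h1 j)
    have h4 := Ideal.radical_mono h3
    rw [Ideal.radical_idem] at h4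
    exact h4 hg
  obtain ⟨m, t, ht⟩ := h2
  obtain ⟨t', rfl⟩ := (onK_pow_bijective α g hgbij m p).2 t
  refine ⟨t', (onK_pow_bijective α g hgbij m (p + 1)).1 ?_⟩
  rw [← α.d_onK, ht]

/-- Version with `1` in the ideal generated by the `f j`. -/
theorem exactAt_of_localizing_of_span_eq_top [Finite ι] (f : ι → A)
    (hf : Ideal.span (Set.range f) = ⊤)
    (hloc : ∀ (j : ι) (q : ℕ) (y : Fin (q + 1) → ι),
      IsLocalizingAt α (f j) (inter_cons_le U j y))
    (p : ℕ) : (K U P).ExactAt (p + 1) := by
  refine exactAt_of_localizing α f 1 (by rw [hf, Ideal.radical_top]; exact Submodule.mem_top) (fun q x => ?_) hloc p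
  have : ⇑(ConcreteCategory.hom ((α.act 1).app (op (inter U x)))) = id := by
    funext m
    exact α.act_one _ m
  rw [this]
  exact Function.bijective_id

/-- **Lemma L.**  If `P(T) → P(D a)` is a localization at `a` for all `a`, where `D` is
multiplicative and `a` acts bijectively on `P(D a)`, then `P(D h) → P(D (h * f))` is a
localization at `f`. -/
theorem isLocalizingAt_of_base (T : Opens X) (D : A → Opens X) (hDT : ∀ a, D a ≤ T)
    (hloc : ∀ a, IsLocalizingAt α a (hDT a))
    (hunit : ∀ a, Function.Bijective ((α.act a).app (op (D a))))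
    (h f : A) (hle : D (h * f) ≤ D h) : IsLocalizingAt α f hle := by
  -- `h` acts bijectively on `P(D (h * f))`
  have hcomm : ∀ (W : (Opens X)ᵒᵖ) (m : P.obj W),
      (α.act h).app W ((α.act f).app W m) = (α.act f).app W ((α.act h).app W m) := by
    intro W m
    rw [← α.act_mul, ← α.act_mul, mul_comm]
  have hpow_bij : ∀ (a : A) (W : (Opens X)ᵒᵖ), Function.Bijective ((α.act a).app W) →
      ∀ n : ℕ, Function.Bijective ((α.act (a ^ n)).app W) := by
    intro a W ha n
    induction n with
    | zero =>
      have : ⇑(ConcreteCategory.hom ((α.act (a ^ 0)).app W)) = id := by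
        funext m
        rw [pow_zero]
        exact α.act_one _ m
      rw [this]
      exact Function.bijective_id
    | succ n ih =>
      have : ⇑(ConcreteCategory.hom ((α.act (a ^ (n + 1))).app W)) =
          ⇑(ConcreteCategory.hom ((α.act (a ^ n)).app W)) ∘
            ⇑(ConcreteCategory.hom ((α.act a).app W)) := by
        funext m
        rw [pow_succ, α.act_mul]; rfl
      rw [this]
      exact ih.comp ha
  have hbij : Function.Bijective ((α.act h).app (op (D (h * f)))) := by
    have hb := hunit (h * f)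
    constructor
    · intro m m' hm
      apply hb.1
      have e1 := α.act_mul f h (op (D (h * f))) m
      have e2 := α.act_mul f h (op (D (h * f))) m'
      rw [mul_comm f h] at e1 e2
      rw [e1, e2, hm]
    · intro m
      obtain ⟨m', hm'⟩ := hb.2 m
      exact ⟨(α.act f).app _ m', by rw [← α.act_mul]; exact hm'⟩
  have hmap : ∀ (m : P.obj (op T)), P.map (homOfLE hle).op (P.map (homOfLE (hDT h)).op m) =
      P.map (homOfLE (hDT (h * f))).op m := by
    intro m
    erw [← AddCommGrpCat.comp_apply, ← P.map_comp]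
    rfl
  constructor
  · intro u
    obtain ⟨n, m, hm⟩ := (hloc (h * f)).surj u
    obtain ⟨t, ht⟩ := (hpow_bij h _ (hunit h) n).2 (P.map (homOfLE (hDT h)).op m)
    refine ⟨n, t, (hpow_bij h _ hbij n).1 ?_⟩
    rw [α.act_naturality, ht, hmap, hm, ← α.act_mul, mul_pow]
  · intro t ht
    obtain ⟨n, m, hm⟩ := (hloc h).surj t
    have h0 : P.map (homOfLE (hDT (h * f))).op m = 0 := by
      rw [← hmap, hm, ← α.act_naturality, ht, map_zero]
    obtain ⟨k, hk⟩ := (hloc (h * f)).inj m h0
    refine ⟨k, (hpow_bij h _ (hunit h) (k + n)).1 ?_⟩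
    rw [map_zero, ← α.act_mul]
    have e : h ^ (k + n) * f ^ k = (h * f) ^ k * h ^ n := by ring
    rw [e, α.act_mul, ← hm, α.act_naturality, hk, map_zero]

end Groth.Agent.Lib.Helper1.Cech
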